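import Cfsg.Agent.H69.OmegaTwelve.Nondeg
import Cfsg.Agent.H98.OrthMax.NondegWrap
import Cfsg.Agent.H98.OrthMax.TotSing
import Cfsg.Agent.H98.OrthMax.Point
import Cfsg.Agent.H96.OrthDecTwo.Bridge
import Cfsg.Agent.H57.ExtOrth.Main
import Cfsg.Agent.H97.Frame.Geo
import Cfsg.Agent.H72.OrthPlanes.Main
import Cfsg.Agent.H72.SubTen.Main

/-!
The geometric clauses for a ten-dimensional space.
-/

set_option autoImplicit false

namespace Cfsg.Agent.H72.OmegaTen

open QuadraticMap Module Cfsg.Agent.Orthogonal Cfsg.Agent.H98.OrthMax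

variable {F : Type*} [Field F] [Fintype F] {Q : QuadraticForm F (Fin 10 → F)}

theorem finrank_ten : finrank F (Fin 10 → F) = 10 := Module.finrank_fin_fun F

/-- A nondegenerate subspace of dimension at most four. -/
theorem isMaximalIn_nd_small (hQ : Nondeg Q) {W : Submodule F (Fin 10 → F)} (hW0 : W ≠ ⊥)
    (hW : Nondeg (restr Q W)) (hd : finrank F W ≤ 4)
    (hex : finrank F W = 2 → (∃ x ∈ W, x ≠ 0 ∧ Q x = 0) → 4 ≤ Fintype.card F) :
    Cfsg.Geo.IsMaximalIn (Cfsg.Geo.omegaGL ⇑Q) (Cfsg.Geo.subspaceStabilizer W ⊓ Cfsg.Geo.omegaGL ⇑Q) := by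
  have hr := hQ.finrank_add_perp W
  rw [finrank_ten] at hr
  exact H69.OmegaTwelve.isMaximalIn_nondeg_six hQ (by rw [finrank_ten]; omega) hW0 hW (by omega)
    (fun g => exists_not_mem_of_lt (by omega) g) hex

/-- Odd-dimensional nondegenerate subspaces other than halves. -/
theorem isMaximalIn_nd_odd (hQ : Nondeg Q) {W : Submodule F (Fin 10 → F)} (hodd : Odd (finrank F W))
    (hne : 2 * finrank F W ≠ 10) (hW : Nondeg (restr Q W)) :
    Cfsg.Geo.IsMaximalIn (Cfsg.Geo.omegaGL ⇑Q) (Cfsg.Geo.subspaceStabilizer W ⊓ Cfsg.Geo.omegaGL ⇑Q) := by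
  have hr := hQ.finrank_add_perp W
  rw [finrank_ten] at hr
  obtain ⟨m, hm⟩ := hodd
  have hne0 : ∀ U : Submodule F (Fin 10 → F), 1 ≤ finrank F U → U ≠ ⊥ := fun U h e => by
    rw [e, finrank_bot] at h; omega
  rcases Nat.lt_or_ge (finrank F W) 5 with h | h
  · exact isMaximalIn_nd_small hQ (hne0 _ (by omega)) hW (by omega) fun h2 _ => by omega
  · rw [← stabilizer_inf_omega_perp hQ W]
    exact isMaximalIn_nd_small hQ (hne0 _ (by omega)) (hQ.nondeg_perp hW) (by omega) fun h2 _ => by omega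

/-- Five planes. -/
theorem isMaximalIn_five_planes (hQ : Nondeg Q) {D : Fin 5 → Submodule F (Fin 10 → F)}
    (hD : Cfsg.Geo.IsOrthogonalMDecomposition (⇑Q) 2 D) (hL : OrthPlanes.Large Q D) :
    Cfsg.Geo.IsMaximalIn (Cfsg.Geo.omegaGL ⇑Q) (Cfsg.Geo.decompositionStabilizer D ⊓ Cfsg.Geo.omegaGL ⇑Q) :=
  OrthPlanes.isMaximalIn_planes ⟨hD.decomp.decomp.finrank_eq,
    fun i => nondeg_restr_of_nondegenerateOn (hD.decomp.nondegenerate i),
    fun i j hij x hx y hy => hD.decomp.orthogonal i j hij x hx y hy, fun i j => hD.isometric i j,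
    hD.decomp.decomp.iSup_eq_top, hQ⟩ le_rfl hL

/-- In minus type five isometric planes are anisotropic. -/
theorem planes_aniso {D : Fin 5 → Submodule F (Fin 10 → F)}
    (hD : Cfsg.Geo.IsOrthogonalMDecomposition (⇑Q) 2 D) (hminus : ¬ Cfsg.Geo.IsPlusTypeOn (⇑Q) ⊤) :
    ∀ i, ∀ x ∈ D i, Q x = 0 → x = 0 := by
  intro i x hx hQx
  by_contra hx0
  choose g hg using fun j => hD.isometric i j
  let e : Fin 5 → (Fin 10 → F) := fun j => ((g j ⟨x, hx⟩ : D j) : Fin 10 → F)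
  have he : ∀ j, Q (e j) = 0 := fun j => (hg j ⟨x, hx⟩).trans hQx
  have he0 : ∀ j, e j ≠ 0 := fun j h => hx0 (by
    have h' : g j ⟨x, hx⟩ = 0 := Subtype.ext h
    rw [LinearEquiv.map_eq_zero_iff] at h'
    exact congrArg Subtype.val h')
  have hli : LinearIndependent F e :=
    hD.decomp.decomp.indep.linearIndependent D (fun j => (g j ⟨x, hx⟩).2) he0
  have hq : ∀ c : Fin 5 → F, Q (∑ j, c j • e j) = 0 := fun c => by
    rw [OrthPlanes.qmap_sum_ortho Q Finset.univ _ fun j _ k _ hjk => by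
      rw [polar_smul_left', polar_smul_right',
        hD.decomp.orthogonal j k hjk _ (g j ⟨x, hx⟩).2 _ (g k ⟨x, hx⟩).2, mul_zero, mul_zero]]
    exact Finset.sum_eq_zero fun j _ => by rw [qmap_smul, he, mul_zero]
  refine hminus ⟨Submodule.span F (Set.range e), le_top, fun w hw => ?_, ?_⟩
  · obtain ⟨c, rfl⟩ := (Submodule.mem_span_range_iff_exists_fun F).1 hw
    exact hq c
  · rw [finrank_span_eq_card hli, Fintype.card_fin, finrank_top, finrank_ten]

/-- Subfield groups, for the form up to a scalar. -/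
theorem isMaximalIn_subfield_scaled (hQ : Nondeg Q) (F₀ : Subfield F) (r : ℕ)
    (P : Matrix.GeneralLinearGroup (Fin 10) F) (ζ : F) (hr : r.Prime) (hcard : Fintype.card F = Nat.card F₀ ^ r)
    (hζ : ζ ≠ 0) (hP : Cfsg.Geo.IsQuadFormRationalStructure (fun v : Fin 10 → F => ζ * Q v) F₀ P) :
    Cfsg.Geo.IsMaximalIn (Cfsg.Geo.omegaGL ⇑Q) (Cfsg.Geo.subfieldSubgroup F₀ P ⊓ Cfsg.Geo.omegaGL ⇑Q) := by
  have hN' : Nondeg (ζ • Q) := fun x hx => hQ x fun y => by
    have := hx y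
    rw [show ⇑(ζ • Q) = ζ • ⇑Q from rfl, QuadraticMap.polar_smul, smul_eq_mul] at this
    exact (mul_eq_zero.1 this).resolve_left hζ
  have hiso : Cfsg.isometryGroup F ⇑Q = Cfsg.isometryGroup F ⇑(ζ • Q) := by
    ext g
    simp [Cfsg.Agent.Orthogonal.mem_isometryGroup_iff, hζ]
  have hΩ : Cfsg.Geo.omegaGL ⇑Q = Cfsg.Geo.omegaGL ⇑(ζ • Q) := by
    unfold Cfsg.Geo.omegaGL Cfsg.Omega
    rw [hiso]
  rw [hΩ]
  exact SubTen.isMaximalIn_subfield_ten F₀ P (ζ • Q) hN' (by simp) r hr hcard hP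

end Cfsg.Agent.H72.OmegaTen
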